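import Cfsg.Agent.AsymL.Stab
import Cfsg.Agent.Invol.BaerSuzuki

/-!
# The asymmetric L-lemma: commuting conjugates of `Y_M` inside `L` coincide
-/

set_option autoImplicit false
set_option linter.unusedSectionVars false

namespace CfsgLib.AsymL

open Subgroup CfsgLib CfsgLib.CharP CfsgLib.FrakM

variable {G : Type*} [Group G] [Finite G] {p : ℕ} [hp : Fact p.Prime]

variable {S : Sylow p G} {M X L : Subgroup G}

local notation "YM" => Cfsg.largestPReducedOf p M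
local notation "OM" => Cfsg.pCoreOf p M
local notation "CM" => centralizer (Cfsg.largestPReducedOf p M : Set G)
local notation "RX" => Cfsg.pCoreOf p X

/-- The hypotheses of the lemma. -/
structure Hyp (S : Sylow p G) (M X L : Subgroup G) : Prop where
  ctx : Ctx S M
  asym : ¬ Cfsg.IsSymmetricIn (Cfsg.largestPReducedOf p M)
  frakH : Cfsg.IsInFrakH p M X
  le : L ≤ X
  yle : Cfsg.largestPReducedOf p M ≤ L
  ynot : ¬ Cfsg.largestPReducedOf p M ≤ Cfsg.pCoreOf p L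
  min : ∀ L' : Subgroup G, L' ≤ L → Cfsg.largestPReducedOf p M ≤ L' →
    ¬ Cfsg.largestPReducedOf p M ≤ Cfsg.pCoreOf p L' → L' = L

theorem conj_mem_cj {a x : G} {U : Subgroup G} (hx : x ∈ U) : a * x * a⁻¹ ∈ cj a U := ⟨x, hx, rfl⟩

/-- A conjugate of `O_p(M)` normalizing `Y_M` gives nothing new. -/
theorem mem_normalizer_y (h : Ctx S M) (hasym : ¬ Cfsg.IsSymmetricIn YM) {g : G}
    (hg : cj g OM ≤ normalizer (YM : Set G)) : g ∈ normalizer (YM : Set G) := by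
  set N := normalizer (YM : Set G) with hN
  have hON : OM ≤ N := h.core_le_normalizer_y
  obtain ⟨T₁, hT₁⟩ := ((isPGroup_pCoreOf M).of_equiv (subgroupOfEquivOfLe hON).symm).exists_le_sylow
  obtain ⟨T₂, hT₂⟩ := (((isPGroup_pCoreOf M).map _).of_equiv
    (subgroupOfEquivOfLe hg).symm).exists_le_sylow
  obtain ⟨m, hm⟩ := MulAction.exists_smul_eq N T₂ T₁
  have he := h.eq_of_mem_pGroup hasym (L := (T₁ : Subgroup N).map N.subtype) (T₁.2.map _)
    (fun y hy => ⟨⟨y, hON hy⟩, hT₁ (mem_subgroupOf.2 hy), rfl⟩) (g := (m : G) * g) (by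
      rw [← cj_mul]
      rintro _ ⟨y, hy, rfl⟩
      have h1 : (⟨y, hg hy⟩ : N) ∈ (T₂ : Subgroup N) := hT₂ (mem_subgroupOf.2 hy)
      have h2 : m * (⟨y, hg hy⟩ : N) * m⁻¹ ∈ ((m • T₂ : Sylow p N) : Subgroup N) := ⟨_, h1, rfl⟩
      rw [hm] at h2
      exact ⟨_, h2, rfl⟩)
  have h3 : (m : G) * g ∈ N := h.dagger_le_normalizer
    (h.normalizer_core_le (mem_normalizer_of_map_le he.le))
  simpa using mul_mem (inv_mem m.2) h3

/-- A `p`-group containing `O_p(M)` normalizes `Y_M`. -/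
theorem pGroup_le_normalizer_y (h : Ctx S M) (hasym : ¬ Cfsg.IsSymmetricIn YM) {P : Subgroup G}
    (hP : IsPGroup p P) (hOP : OM ≤ P) : P ≤ normalizer (YM : Set G) :=
  le_normalizer.trans ((h.normalizer_pGroup_le hasym hP hOP).trans
    (h.normalizer_core_le.trans h.dagger_le_normalizer))

namespace Hyp

variable (Hy : Hyp S M X L)
include Hy

theorem core_le : OM ≤ X := Hy.frakH.2.1

theorem y_le_core : YM ≤ OM := largestPReducedOf_le_pCoreOf M

theorem core_le_centralizer : OM ≤ CM := pCoreOf_le_centralizer M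

theorem y_comm {a b : G} (ha : a ∈ YM) (hb : b ∈ YM) : a * b = b * a :=
  mem_centralizer_iff.1 (Hy.core_le_centralizer (Hy.y_le_core hb)) a ha

theorem y_le_X : YM ≤ X := Hy.yle.trans Hy.le

theorem r_le_normalizer_y {g : G} (hg : g ∈ X) : RX ≤ normalizer ((cj g YM : Subgroup G) : Set G) := by
  intro r hr
  rw [normalizer_cj, mem_cj]
  refine h_le ?_
  have h2 := (mem_normalizer_iff.1 (le_normalizer_pCoreOf X (inv_mem hg)) r).1 hr
  simpa using h2
where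
  h_le {x : G} (hx : x ∈ RX) : x ∈ normalizer (YM : Set G) :=
    Hy.ctx.dagger_le_normalizer (Hy.ctx.normalizer_core_le
      (Hy.ctx.pCoreOf_le_normalizer Hy.asym Hy.core_le hx))

theorem r_le_y : RX ≤ normalizer (YM : Set G) := by
  have := Hy.r_le_normalizer_y (one_mem X)
  rwa [cj_one] at this

theorem centralizer_r {x : G} (hx : x ∈ X) (hc : ∀ r ∈ RX, x * r = r * x) : x ∈ RX :=
  (inner_iff X).2 Hy.frakH.1 ⟨hx, mem_centralizer_iff.2 fun r hr => (hc r hr).symm⟩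

/-- `[R, Y] ≤ Y ∩ R`. -/
theorem comm_ry {r y : G} (hr : r ∈ RX) (hy : y ∈ YM) : y * r * y⁻¹ * r⁻¹ ∈ YM ⊓ RX := by
  refine Subgroup.mem_inf.2 ⟨?_, ?_⟩
  · have h1 := (mem_normalizer_iff.1 (Hy.r_le_y hr) y⁻¹).1 (inv_mem hy)
    simpa [mul_assoc] using mul_mem hy h1
  · exact mul_mem ((mem_normalizer_iff.1 (le_normalizer_pCoreOf X (Hy.y_le_X hy)) r).1 hr) (inv_mem hr)

/-- A proper subgroup of `L` over `Y` has `Y` in its `p`-core. -/
theorem le_pCore_of_lt {L' : Subgroup G} (hle : L' ≤ L) (hY : YM ≤ L') (hne : L' ≠ L) :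
    YM ≤ Cfsg.pCoreOf p L' := by
  by_contra h
  exact hne (Hy.min L' hle hY h)

/-- A proper subgroup `⟨Y, Yˣ⟩` is a `p`-group. -/
theorem isPGroup_pair {x : G} (hx : x ∈ L) (hne : YM ⊔ cj x YM ≠ L) :
    IsPGroup p ↥(YM ⊔ cj x YM) := by
  have hxY : cj x YM ≤ L := by
    rintro _ ⟨y, hy, rfl⟩
    exact mul_mem (mul_mem hx (Hy.yle hy)) (inv_mem hx)
  set L' := YM ⊔ cj x YM with hL'
  have hle : L' ≤ L := sup_le Hy.yle hxY
  have h1 := Hy.le_pCore_of_lt hle le_sup_left hne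
  have hle2 : cj x⁻¹ L' ≤ L := by
    rintro _ ⟨y, hy, rfl⟩
    exact mul_mem (mul_mem (inv_mem hx) (hle hy)) (inv_mem (inv_mem hx))
  have hY2 : YM ≤ cj x⁻¹ L' := by
    intro y hy
    rw [mem_cj, inv_inv]
    exact mem_sup_right (conj_mem_cj hy)
  have hne2 : cj x⁻¹ L' ≠ L := by
    intro e
    refine hne (eq_of_le_of_card_ge hle (le_of_eq ?_))
    rw [← card_map_of_injective (K := L') (f := (MulAut.conj x⁻¹).toMonoidHom)
      (MulAut.conj x⁻¹).injective]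
    exact congrArg (fun K : Subgroup G => Nat.card K) e.symm
  have h2 := Hy.le_pCore_of_lt hle2 hY2 hne2
  rw [pCoreOf_cj] at h2
  have h3 : cj x YM ≤ Cfsg.pCoreOf p L' := by
    have h4 := cj_mono x h2
    rwa [cj_mul, mul_inv_cancel, cj_one] at h4
  exact (isPGroup_pCoreOf L').to_le (sup_le h1 h3)

/-- Some conjugate generates `L` with `Y`. -/
theorem exists_gen : ∃ h ∈ L, YM ⊔ cj h YM = L := by
  by_contra hno
  push_neg at hno
  refine Hy.ynot fun y hy => ⟨⟨y, Hy.yle hy⟩, ?_, rfl⟩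
  refine Invol.le_pCore_of_pairs ((YM).subgroupOf L) (fun g => ?_) (mem_subgroupOf.2 hy)
  have h2 : ((YM).subgroupOf L ⊔ ((YM).subgroupOf L).map (MulAut.conj g).toMonoidHom).map L.subtype ≤
      YM ⊔ cj (g : G) YM := by
    rw [Subgroup.map_sup]
    refine sup_le_sup ?_ ?_
    · rintro _ ⟨a, ha, rfl⟩
      exact ha
    · rintro _ ⟨_, ⟨a, ha, rfl⟩, rfl⟩
      exact ⟨(a : G), ha, rfl⟩
  exact ((Hy.isPGroup_pair g.2 (hno g g.2)).to_le h2).of_equiv
    (equivMapOfInjective _ _ L.subtype_injective).symm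

section Gen

variable {h : G} (hh : h ∈ L)
  (hgen : Cfsg.largestPReducedOf p M ⊔ cj h (Cfsg.largestPReducedOf p M) = L)
include hh hgen

local notation "U" => YM ⊓ RX
local notation "U'" => cj h (YM ⊓ RX)
local notation "B₀" => (YM ⊓ RX) ⊔ cj h (YM ⊓ RX)

theorem centralizer_L {f : G} (h1 : ∀ y ∈ YM, f * y = y * f)
    (h2 : ∀ y ∈ cj h YM, f * y = y * f) : ∀ l ∈ L, f * l = l * f := by
  have hle : L ≤ centralizer {f} := hgen ▸ sup_le
    (fun y hy => mem_centralizer_singleton_iff.2 (h1 y hy).symm)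
    (fun y hy => mem_centralizer_singleton_iff.2 (h2 y hy).symm)
  exact fun l hl => (mem_centralizer_singleton_iff.1 (hle hl)).symm

theorem u'_le_r : U' ≤ RX := by
  rintro _ ⟨u, hu, rfl⟩
  exact (mem_normalizer_iff.1 (le_normalizer_pCoreOf X (Hy.le hh)) u).1 hu.2

theorem r_le_normalizer_u' : RX ≤ normalizer ((U' : Subgroup G) : Set G) := by
  intro r hr
  rw [normalizer_cj, mem_cj]
  have hr' : h⁻¹ * r * h ∈ RX := by
    have := (mem_normalizer_iff.1 (le_normalizer_pCoreOf X (inv_mem (Hy.le hh))) r).1 hr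
    simpa using this
  refine mem_normalizer_iff.2 fun a => ?_
  rw [Subgroup.mem_inf, Subgroup.mem_inf]
  exact and_congr (mem_normalizer_iff.1 (Hy.r_le_y hr') a)
    (mem_normalizer_iff.1 (le_normalizer hr') a)

theorem b_le_r : B₀ ≤ RX := sup_le inf_le_right (Hy.u'_le_r hh hgen)

/-- `L` acts trivially on `R` modulo `B₀`. -/
theorem le_stab : L ≤ stab RX B₀ := by
  have hR : ∀ {g : G}, g ∈ L → g ∈ normalizer (RX : Set G) :=
    fun hg => le_normalizer_pCoreOf X (Hy.le hg)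
  have key : ∀ y ∈ YM, y ∈ stab RX B₀ := by
    intro y hy
    refine ⟨hR (Hy.yle hy), mem_normalizer_of_comm (R := RX) (B := U)
      (fun r hr => Hy.comm_ry hr hy) le_sup_left (Hy.b_le_r hh hgen), fun r hr => ?_⟩
    exact mem_sup_left (Hy.comm_ry hr hy)
  have key' : ∀ y ∈ cj h YM, y ∈ stab RX B₀ := by
    rintro _ ⟨y, hy, rfl⟩
    have hcomm : ∀ r ∈ RX, h * y * h⁻¹ * r * (h * y * h⁻¹)⁻¹ * r⁻¹ ∈ U' := by
      intro r hr
      have hr' := (mem_normalizer_iff.1 (le_normalizer_pCoreOf X (inv_mem (Hy.le hh))) r).1 hr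
      refine ⟨_, Hy.comm_ry hr' hy, ?_⟩
      simp [mul_assoc]
    have hy' : h * y * h⁻¹ ∈ L := mul_mem (mul_mem hh (Hy.yle hy)) (inv_mem hh)
    exact ⟨hR hy', mem_normalizer_of_comm (R := RX) (B := U') hcomm le_sup_right (Hy.b_le_r hh hgen),
      fun r hr => mem_sup_right (hcomm r hr)⟩
  exact hgen ▸ sup_le key key'

theorem exists_uv {b : G} (hb : b ∈ B₀) : ∃ u ∈ U, ∃ v ∈ U', b = u * v :=
  exists_mul_of_mem_sup (inf_le_right.trans (Hy.r_le_normalizer_u' hh hgen)) hb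

/-- `C_{B₀}(Y) = Y ∩ R`. -/
theorem b_inf_centralizer : B₀ ⊓ CM ≤ U := by
  rintro b ⟨hb, hbc⟩
  obtain ⟨u, hu, v, ⟨w, hw, rfl⟩, rfl⟩ := Hy.exists_uv hh hgen hb
  have hvc : h * w * h⁻¹ ∈ CM := by
    have := mul_mem (inv_mem (Hy.core_le_centralizer (Hy.y_le_core hu.1))) hbc
    simpa [MulAut.conj_apply] using this
  have hcen := Hy.centralizer_L hh hgen (f := h * w * h⁻¹)
    (fun y hy => (mem_centralizer_iff.1 hvc y hy).symm)
    (by
      rintro _ ⟨y, hy, rfl⟩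
      simp only [MulEquiv.coe_toMonoidHom, MulAut.conj_apply]
      rw [show h * w * h⁻¹ * (h * y * h⁻¹) = h * (w * y) * h⁻¹ by group,
        Hy.y_comm hw.1 hy]
      group) h hh
  have he : h * w * h⁻¹ = w := by
    have h2 := congrArg (fun e => h⁻¹ * e) hcen
    simp only [mul_assoc, inv_mul_cancel_left] at h2
    simpa [mul_assoc] using h2.symm
  exact mul_mem hu (by simpa [he] using hw)

/-- `C_R(Y) = C_R(L)(Y ∩ R)`. -/
theorem exists_u_fixed {r : G} (hr : r ∈ RX) (hrc : r ∈ CM) :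
    ∃ u ∈ U, ∀ l ∈ L, u * r * l = l * (u * r) := by
  obtain ⟨-, -, hst⟩ := Hy.le_stab hh hgen hh
  have hb := hst r hr
  rw [sup_comm] at hb
  obtain ⟨v, hv, u, hu, hvu⟩ := exists_mul_of_mem_sup (L := U') (C := U)
    ((Hy.u'_le_r hh hgen).trans fun a ha => mem_normalizer_iff.2 fun b => by
      rw [Subgroup.mem_inf, Subgroup.mem_inf]
      exact and_congr (mem_normalizer_iff.1 (Hy.r_le_y ha) b) (mem_normalizer_iff.1 (le_normalizer ha) b)) hb
  refine ⟨u, hu, Hy.centralizer_L hh hgen ?_ ?_⟩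
  · exact fun y hy => (mem_centralizer_iff.1
      (mul_mem (Hy.core_le_centralizer (Hy.y_le_core hu.1)) hrc) y hy).symm
  · rintro _ ⟨y, hy, rfl⟩
    obtain ⟨w, hw, rfl⟩ := hv
    simp only [MulEquiv.coe_toMonoidHom, MulAut.conj_apply] at hvu ⊢
    have he : u * r = h * (w⁻¹ * r) * h⁻¹ := by
      rw [show h * r * h⁻¹ * r⁻¹ = h * w * h⁻¹ * u ↔ h * r * h⁻¹ = h * w * h⁻¹ * u * r from
        mul_inv_eq_iff_eq_mul] at hvu
      rw [show h * (w⁻¹ * r) * h⁻¹ = (h * w * h⁻¹)⁻¹ * (h * r * h⁻¹) by group, hvu]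
      group
    have hwr : w⁻¹ * r ∈ CM := mul_mem (inv_mem (Hy.core_le_centralizer (Hy.y_le_core hw.1))) hrc
    rw [he, show h * (w⁻¹ * r) * h⁻¹ * (h * y * h⁻¹) = h * ((w⁻¹ * r) * y) * h⁻¹ by group,
      (mem_centralizer_iff.1 hwr y hy).symm]
    group

/-- An element moving `R` only into `C_R(Y)` and fixing `Y ∩ R` moves `Y` only inside `R`. -/
theorem e_comm {σ w r : G} (hσX : σ ∈ X) (hσR : ∀ r ∈ RX, σ * r * σ⁻¹ * r⁻¹ ∈ RX ⊓ CM)
    (hσu : ∀ u ∈ U, σ * u = u * σ) (hw : w ∈ YM) (hr : r ∈ RX) :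
    w⁻¹ * (σ * w * σ⁻¹) * r = r * (w⁻¹ * (σ * w * σ⁻¹)) := by
  have hv := Hy.comm_ry hr hw
  set d := σ⁻¹ * r * σ * r⁻¹ with hd
  have hd' : d ∈ RX ⊓ CM := by
    have hr' := (mem_normalizer_iff.1 (le_normalizer_pCoreOf X (inv_mem hσX)) r).1 hr
    have h1 := inv_mem (hσR _ hr')
    simpa [hd, mul_assoc] using h1
  have e1 : σ⁻¹ * r * σ = d * r := by rw [hd]; group
  have hdw : w * d = d * w := mem_centralizer_iff.1 hd'.2 w hw
  have hdv : d * (w * r * w⁻¹ * r⁻¹) = (w * r * w⁻¹ * r⁻¹) * d :=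
    (mem_centralizer_iff.1 hd'.2 _ hv.1).symm
  have e2 : w * (d * r) * w⁻¹ = (w * r * w⁻¹ * r⁻¹) * (d * r) := by
    rw [← mul_assoc w d r, hdw, ← mul_assoc _ d r, ← hdv]
    group
  have e3 : σ * w * σ⁻¹ * r * (σ * w * σ⁻¹)⁻¹ = w * r * w⁻¹ := by
    calc σ * w * σ⁻¹ * r * (σ * w * σ⁻¹)⁻¹ = σ * (w * (σ⁻¹ * r * σ) * w⁻¹) * σ⁻¹ := by group
      _ = σ * ((w * r * w⁻¹ * r⁻¹) * (d * r)) * σ⁻¹ := by rw [e1, e2]
      _ = (σ * (w * r * w⁻¹ * r⁻¹)) * (d * r) * σ⁻¹ := by group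
      _ = (w * r * w⁻¹ * r⁻¹) * (σ * (σ⁻¹ * r * σ) * σ⁻¹) := by rw [hσu _ hv, e1]; group
      _ = w * r * w⁻¹ := by group
  have e4 := congrArg (fun z => w⁻¹ * z * (σ * w * σ⁻¹)) e3
  simpa [mul_assoc] using e4

theorem e_mem_r {σ w : G} (hσX : σ ∈ X) (hσR : ∀ r ∈ RX, σ * r * σ⁻¹ * r⁻¹ ∈ RX ⊓ CM)
    (hσu : ∀ u ∈ U, σ * u = u * σ) (hw : w ∈ YM) : w⁻¹ * (σ * w * σ⁻¹) ∈ RX :=
  Hy.centralizer_r (mul_mem (inv_mem (Hy.y_le_X hw))
      (mul_mem (mul_mem hσX (Hy.y_le_X hw)) (inv_mem hσX)))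
    fun _ hr => Hy.e_comm hh hgen hσX hσR hσu hw hr

/-- Commuting conjugates of `Y` in `L` coincide. -/
theorem mem_normalizer_of_commute {t : G} (ht : t ∈ L) (htc : cj t YM ≤ CM) :
    t ∈ normalizer (YM : Set G) := by
  classical
  have htX := Hy.le ht
  set D := RX ⊓ CM with hD
  have htR : t ∈ normalizer (RX : Set G) := le_normalizer_pCoreOf X htX
  obtain ⟨-, htB, htst⟩ := Hy.le_stab hh hgen ht
  have htU : t ∈ normalizer ((U : Subgroup G) : Set G) := by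
    refine mem_normalizer_of_map_le ?_
    rintro _ ⟨u, hu, rfl⟩
    exact Hy.b_inf_centralizer hh hgen
      ⟨(mem_normalizer_iff.1 htB u).1 (mem_sup_left hu), htc (conj_mem_cj hu.1)⟩
  have htDU : ∀ r ∈ D, t * r * t⁻¹ * r⁻¹ ∈ U := by
    rintro r ⟨hr, hrc⟩
    obtain ⟨u, hu, hfix⟩ := Hy.exists_u_fixed hh hgen hr hrc
    have h1 := mul_mem ((mem_normalizer_iff.1 htU u⁻¹).1 (inv_mem hu)) hu
    have h3 : t * r * t⁻¹ * r⁻¹ = t * u⁻¹ * t⁻¹ * u := by
      have h2 : t * (u * r) * t⁻¹ = u * r := by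
        rw [← hfix t ht, mul_inv_cancel_right]
      have h4 : t * r * t⁻¹ = t * u⁻¹ * t⁻¹ * (u * r) := by
        conv_rhs => rw [← h2]
        group
      rw [h4]
      group
    rwa [h3]
  have hUD : U ≤ D := fun u hu => ⟨hu.2, Hy.core_le_centralizer (Hy.y_le_core hu.1)⟩
  have htD : t ∈ normalizer (D : Set G) := mem_normalizer_of_map_le (by
    rintro _ ⟨r, hr, rfl⟩
    have := mul_mem (hUD (htDU r hr)) hr
    simpa using this)
  -- the centre of `C_R(Y)`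
  set Z := D ⊓ centralizer (D : Set G) with hZ
  have hUZ : U ≤ Z := fun u hu => ⟨hUD hu, mem_centralizer_iff.2 fun d hd =>
    (mem_centralizer_iff.1 (show d ∈ CM from hd.2) u hu.1).symm⟩
  have hnormZ : normalizer (D : Set G) ≤ normalizer (Z : Set G) := fun g hg => by
    refine mem_normalizer_iff.2 fun a => ?_
    rw [hZ, Subgroup.mem_inf, Subgroup.mem_inf]
    exact and_congr (mem_normalizer_iff.1 hg a)
      (mem_normalizer_iff.1 (normalizer_le_normalizer_centralizer D hg) a)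
  set J := YM ⊔ Z with hJ
  have hZY : ∀ z ∈ Z, ∀ y ∈ YM, z * y = y * z := fun z hz y hy =>
    (mem_centralizer_iff.1 hz.1.2 y hy).symm
  have hJc : ∀ a ∈ J, ∀ b ∈ J, a * b = b * a := by
    have h0 : J ≤ centralizer (J : Set G) := by
      refine sup_le ?_ ?_ <;> rw [le_centralizer_iff] <;> refine sup_le ?_ ?_
      · exact fun a ha => mem_centralizer_iff.2 fun b hb => Hy.y_comm hb ha
      · exact fun a ha => mem_centralizer_iff.2 fun b hb => (hZY a ha b hb).symm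
      · exact fun a ha => mem_centralizer_iff.2 fun b hb => hZY b hb a ha
      · exact fun a ha => mem_centralizer_iff.2 fun b hb => mem_centralizer_iff.1 ha.2 b hb.1
    exact fun a ha b hb => mem_centralizer_iff.1 (h0 hb) a ha
  have hmemJ : ∀ σ ∈ normalizer (D : Set G), (∀ y ∈ YM, σ * y * σ⁻¹ * y⁻¹ ∈ Z) → σ ∈ stab J Z := by
    intro σ hσD hσ
    have hσZ := hnormZ hσD
    have hall : ∀ a ∈ J, σ * a * σ⁻¹ * a⁻¹ ∈ Z := by
      intro a ha
      obtain ⟨y, hy, z, hz, rfl⟩ := exists_mul_of_mem_sup (L := YM) (C := Z)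
        (fun y hy => mem_normalizer_of_map_le (by
          rintro _ ⟨z, hz, rfl⟩
          simp only [MulEquiv.coe_toMonoidHom, MulAut.conj_apply]
          rw [← hZY z hz y hy, mul_inv_cancel_right]
          exact hz)) ha
      have h1 := mul_mem ((mem_normalizer_iff.1 hσZ z).1 hz) (inv_mem hz)
      have h2 : σ * (y * z) * σ⁻¹ * (y * z)⁻¹ =
          (σ * y * σ⁻¹) * (σ * z * σ⁻¹ * z⁻¹) * y⁻¹ := by group
      rw [h2, show (σ * y * σ⁻¹) = (σ * y * σ⁻¹ * y⁻¹) * y by group,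
        mul_assoc _ y, ← hJc (σ * z * σ⁻¹ * z⁻¹) (mem_sup_right h1) y (mem_sup_left hy)]
      simpa [mul_assoc] using mul_mem (hσ y hy) h1
    refine ⟨mem_normalizer_of_map_le ?_, hσZ, hall⟩
    rintro _ ⟨a, ha, rfl⟩
    have := mul_mem (mem_sup_right (hall a ha) : σ * a * σ⁻¹ * a⁻¹ ∈ J) ha
    simpa using this
  set Ω := X ⊓ normalizer ((U : Subgroup G) : Set G) ⊓ stab J Z with hΩ
  have hCD : ∀ c ∈ OM, ∀ r ∈ RX, c * r * c⁻¹ * r⁻¹ ∈ D := by
    intro c hc r hr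
    refine Subgroup.mem_inf.2 ⟨mul_mem ((mem_normalizer_iff.1 (le_normalizer_pCoreOf X (Hy.core_le hc)) r).1 hr)
      (inv_mem hr), mem_centralizer_iff.2 fun y hy => ?_⟩
    have hcy : ∀ w ∈ YM, w * c = c * w := fun w hw =>
      mem_centralizer_iff.1 (Hy.core_le_centralizer hc) w hw
    have hy' : r⁻¹ * y * r ∈ YM := by
      have := (mem_normalizer_iff.1 (inv_mem (Hy.r_le_y hr)) y).1 hy
      simpa using this
    calc y * (c * r * c⁻¹ * r⁻¹) = c * (y * r) * c⁻¹ * r⁻¹ := by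
          simp only [← mul_assoc]; rw [hcy y hy]
      _ = c * r * ((r⁻¹ * y * r) * c⁻¹) * r⁻¹ := by group
      _ = c * r * (c⁻¹ * (r⁻¹ * y * r)) * r⁻¹ := by
          congr 2
          exact eq_inv_mul_of_mul_eq (by rw [← mul_assoc, ← hcy _ hy', mul_inv_cancel_right])
      _ = c * r * c⁻¹ * r⁻¹ * y := by group
  have hCΩ : OM ≤ Ω := by
    intro c hc
    have hcD : c ∈ normalizer (D : Set G) := mem_normalizer_of_map_le (by
      rintro _ ⟨r, hr, rfl⟩
      have := mul_mem (hCD c hc r hr.1) hr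
      simpa using this)
    refine ⟨⟨Hy.core_le hc, ?_⟩, hmemJ c hcD fun y hy => ?_⟩
    · refine FrakM.centralizer_le_normalizer _ (mem_centralizer_iff.2 fun u hu => ?_)
      exact mem_centralizer_iff.1 (Hy.core_le_centralizer hc) u hu.1
    · rw [← mem_centralizer_iff.1 (Hy.core_le_centralizer hc) y hy, mul_inv_cancel_right,
        mul_inv_cancel]
      exact one_mem _
  have hσΩ : ∀ c ∈ OM, t * c * t⁻¹ ∈ Ω := by
    intro c hc
    set σ := t * c * t⁻¹ with hσ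
    have hσX : σ ∈ X := mul_mem (mul_mem htX (Hy.core_le hc)) (inv_mem htX)
    have hσR : ∀ r ∈ RX, σ * r * σ⁻¹ * r⁻¹ ∈ D := by
      intro r hr
      have h1 := (mem_normalizer_iff.1 htD _).1 (hCD c hc _ ((mem_normalizer_iff.1 (inv_mem htR) r).1 hr))
      simpa [hσ, mul_assoc] using h1
    have hσu : ∀ u ∈ U, σ * u = u * σ := by
      intro u hu
      have hu' := (mem_normalizer_iff.1 (inv_mem htU) u).1 hu
      have h1 := mem_centralizer_iff.1 (Hy.core_le_centralizer hc) _ hu'.1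
      have h2 := congrArg (fun e => t * e * t⁻¹) h1
      simpa [hσ, mul_assoc] using h2.symm
    have hσD : σ ∈ normalizer (D : Set G) := mem_normalizer_of_map_le (by
      rintro _ ⟨r, hr, rfl⟩
      have := mul_mem (hσR r hr.1) hr
      simpa using this)
    refine ⟨⟨hσX, FrakM.centralizer_le_normalizer _ (mem_centralizer_iff.2 fun u hu => (hσu u hu).symm)⟩,
      hmemJ σ hσD fun y hy => ?_⟩
    have hyX := Hy.y_le_X hy
    set e := y⁻¹ * (σ * y * σ⁻¹) with he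
    have heX : e ∈ X := mul_mem (inv_mem hyX) (mul_mem (mul_mem hσX hyX) (inv_mem hσX))
    have heR' : e ∈ RX := Hy.e_mem_r hh hgen hσX hσR hσu hy
    have h1 : cj σ YM ≤ normalizer ((cj 1 YM : Subgroup G) : Set G) := by
      rw [cj_one]
      rintro _ ⟨w, hw, rfl⟩
      have hwe := Hy.r_le_y (show w⁻¹ * (σ * w * σ⁻¹) ∈ RX from
        Hy.e_mem_r hh hgen hσX hσR hσu hw)
      have := mul_mem (le_normalizer hw) hwe
      simpa [mul_assoc] using this
    have h2 : cj 1 YM ≤ normalizer ((cj σ YM : Subgroup G) : Set G) := by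
      rw [cj_one]
      intro w hw
      have hwe := Hy.r_le_normalizer_y hσX (show w⁻¹ * (σ * w * σ⁻¹) ∈ RX from
        Hy.e_mem_r hh hgen hσX hσR hσu hw)
      have := mul_mem (le_normalizer (conj_mem_cj (a := σ) hw)) (inv_mem hwe)
      simpa [mul_assoc] using this
    have h3 := commute_of_asym Hy.asym h1 h2 (conj_mem_cj hy)
    rw [cj_one] at h3
    have hec : e ∈ CM := mul_mem (inv_mem (Hy.core_le_centralizer (Hy.y_le_core hy))) h3
    have hee : σ * y * σ⁻¹ * y⁻¹ = e := by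
      rw [show σ * y * σ⁻¹ * y⁻¹ = y * e * y⁻¹ by simp [he],
        mem_centralizer_iff.1 hec y hy, mul_inv_cancel_right]
    rw [hee]
    exact ⟨⟨heR', hec⟩, mem_centralizer_iff.2 fun d hd => (Hy.e_comm hh hgen hσX hσR hσu hy hd.1).symm⟩
  -- a Sylow subgroup of `Ω` containing `O_p(M)`
  obtain ⟨T₀, hT₀⟩ := ((isPGroup_pCoreOf M).of_equiv (subgroupOfEquivOfLe hCΩ).symm).exists_le_sylow
  set T := (T₀ : Subgroup Ω).map Ω.subtype with hT
  have hTY : T ≤ normalizer (YM : Set G) := pGroup_le_normalizer_y Hy.ctx Hy.asym (T₀.2.map _)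
    fun c hc => ⟨⟨c, hCΩ hc⟩, hT₀ (mem_subgroupOf.2 hc), rfl⟩
  have hTΩ : T ≤ Ω := map_subtype_le _
  have hTU : ∀ y ∈ YM, ∀ g ∈ T, g * y * g⁻¹ * y⁻¹ ∈ U := fun y hy g hg =>
    Subgroup.mem_inf.2 ⟨mul_mem ((mem_normalizer_iff.1 (hTY hg) y).1 hy) (inv_mem hy),
      ((hTΩ hg).2.2.2 y (mem_sup_left hy)).1.1⟩
  set m := T.relIndex Ω with hm
  have hmp : ¬ p ∣ m := by
    have h1 : T.subgroupOf Ω = (T₀ : Subgroup Ω) := by
      rw [hT, subgroupOf, comap_map_eq_self_of_injective Ω.subtype_injective]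
    rw [hm, Subgroup.relIndex, h1]
    exact T₀.not_dvd_index
  refine mem_normalizer_y Hy.ctx Hy.asym ?_
  rintro _ ⟨c, hc, rfl⟩
  simp only [MulEquiv.coe_toMonoidHom, MulAut.conj_apply]
  set σ := t * c * t⁻¹ with hσ
  obtain ⟨⟨-, hσU⟩, hσJ, -, hσall⟩ := hσΩ c hc
  refine mem_normalizer_of_map_le ?_
  rintro _ ⟨y, hy, rfl⟩
  simp only [MulEquiv.coe_toMonoidHom, MulAut.conj_apply]
  obtain ⟨z, hzZ, hav⟩ := exists_average hJc hUZ le_sup_right
    (fun g (hg : g ∈ Ω) => hg.1.2) (fun g (hg : g ∈ Ω) => hg.2) hTΩ (mem_sup_left hy : y ∈ J) (hTU y hy)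
  rw [← hm] at hav
  -- `c` fixes `z` modulo `U`
  have hcz : c * z * c⁻¹ * z⁻¹ ∈ U := by
    have h1 := hav c (hCΩ hc)
    have hcy : c * y ^ m = y ^ m * c :=
      (mem_centralizer_iff.1 (Hy.core_le_centralizer hc) _ (pow_mem hy m)).symm
    have : c * (z * y ^ m) * c⁻¹ * (z * y ^ m)⁻¹ = c * z * c⁻¹ * z⁻¹ := by
      rw [show c * (z * y ^ m) * c⁻¹ = c * z * (y ^ m * c⁻¹) by group,
        show y ^ m * c⁻¹ = c⁻¹ * y ^ m from eq_inv_mul_of_mul_eq (by
          rw [← mul_assoc, hcy, mul_inv_cancel_right])]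
      group
    rwa [this] at h1
  have hσz : σ * z * σ⁻¹ * z⁻¹ ∈ U := by
    have hu1 := htDU z hzZ.1
    set u1 := t * z * t⁻¹ * z⁻¹ with hu1def
    have h1 := (mem_normalizer_iff.1 htU _).1 hcz
    have hσu1 : σ * u1⁻¹ = u1⁻¹ * σ := by
      have hu' := (mem_normalizer_iff.1 (inv_mem htU) u1⁻¹).1 (inv_mem hu1)
      have h2 := mem_centralizer_iff.1 (Hy.core_le_centralizer hc) _ hu'.1
      have h3 := congrArg (fun e => t * e * t⁻¹) h2
      simpa [hσ, mul_assoc] using h3.symm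
    have h4 : σ * z * σ⁻¹ * z⁻¹ = u1⁻¹ * (t * (c * z * c⁻¹ * z⁻¹) * t⁻¹) * u1 := by
      rw [show σ * z = σ * u1⁻¹ * (t * z * t⁻¹) by rw [hu1def]; group, hσu1, hu1def, hσ]
      group
    rw [h4]
    exact mul_mem (mul_mem (inv_mem hu1) h1) hu1
  have hσav := hav σ (hσΩ c hc)
  let φ : G → G := fun a => σ * a * σ⁻¹ * a⁻¹
  have hφ : ∀ a ∈ J, ∀ b ∈ J, φ (a * b) = φ a * φ b := by
    intro a ha b hb
    have hb' : φ b ∈ J := mem_sup_right (hσall b hb)
    have ha' : φ a ∈ J := mem_sup_right (hσall a ha)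
    simp only [φ] at hb' ha' ⊢
    calc σ * (a * b) * σ⁻¹ * (a * b)⁻¹
        = (σ * a * σ⁻¹ * a⁻¹) * (a * (σ * b * σ⁻¹ * b⁻¹) * a⁻¹) := by group
      _ = _ := by rw [hJc a ha _ hb', mul_inv_cancel_right]
  have hym : φ (y ^ m) ∈ U := by
    have h1 : φ (z * y ^ m) = φ z * φ (y ^ m) :=
      hφ z (mem_sup_right hzZ) _ (pow_mem (mem_sup_left hy) m)
    have h2 : φ (z * y ^ m) ∈ U := hσav
    rw [h1] at h2
    exact ((YM ⊓ RX).mul_mem_cancel_left hσz).1 h2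
  have hpow : ∀ k : ℕ, φ (y ^ k) = φ y ^ k := by
    intro k
    induction k with
    | zero => simp [φ]
    | succ k ih => rw [pow_succ, hφ _ (pow_mem (mem_sup_left hy) k) _ (mem_sup_left hy), ih, pow_succ]
  rw [hpow] at hym
  have heU : φ y ∈ U := by
    have hR : φ y ∈ RX := (hσall y (mem_sup_left hy)).1.1
    obtain ⟨k, hk⟩ := isPGroup_pCoreOf (p := p) X ⟨_, hR⟩
    have hk' : φ y ^ p ^ k = 1 := congrArg Subtype.val hk
    have hcop : (m : ℕ).Coprime (p ^ k) :=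
      Nat.Coprime.pow_right _ ((Nat.Prime.coprime_iff_not_dvd hp.out).2 hmp).symm
    obtain ⟨j, hj⟩ := exists_pow_eq_self_of_coprime
      (hcop.coprime_dvd_right (orderOf_dvd_of_pow_eq_one hk'))
    rw [← hj]
    exact pow_mem hym j
  have := mul_mem heU.1 hy
  simpa [φ] using this

end Gen

end Hyp

end CfsgLib.AsymL
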