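import Cfsg.Agent.AsymL.Key

/-!
# The asymmetric L-lemma
-/

set_option autoImplicit false
set_option linter.unusedSectionVars false

namespace CfsgLib.AsymL

open Subgroup CfsgLib CfsgLib.CharP CfsgLib.FrakM
open scoped commutatorElement

variable {G : Type*} [Group G] [Finite G] {p : ℕ} [hp : Fact p.Prime]

variable {S : Sylow p G} {M X L : Subgroup G}

local notation "YM" => Cfsg.largestPReducedOf p M
local notation "OM" => Cfsg.pCoreOf p M
local notation "CM" => centralizer (Cfsg.largestPReducedOf p M : Set G)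
local notation "RX" => Cfsg.pCoreOf p X
local notation "OL" => Cfsg.pCoreOf p L

/-- A normalized subgroup of `X` without elements of order prime to `p` is in the `p`-core. -/
theorem le_pCoreOf_of_no_pPrime {A : Subgroup G} (hA : A ≤ X) (hn : X ≤ normalizer (A : Set G))
    (h : ∀ l ∈ A, (orderOf l).Coprime p → l = 1) : A ≤ RX :=
  le_pCoreOf hA (isPGroup_of_no_pPrime A h) hn

/-- An element of order prime to `p` in a `p`-group is trivial. -/
theorem eq_one_of_coprime {P : Subgroup G} (hP : IsPGroup p P) {x : G} (hx : x ∈ P)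
    (hc : (orderOf x).Coprime p) : x = 1 := by
  obtain ⟨k, hk⟩ := hP ⟨x, hx⟩
  exact orderOf_eq_one_iff.mp (Nat.eq_one_of_dvd_coprimes (hc.pow_right k) dvd_rfl
    (orderOf_dvd_of_pow_eq_one (congrArg Subtype.val hk)))

/-- A `p`-group over which a subgroup moves a `p`-section fixes something there. -/
theorem comm_eq_of_comm_lt {V W C : Subgroup G} (hV : IsPGroup p V) (hC : IsPGroup p C)
    (hCV : C ≤ normalizer (V : Set G)) (hVW : V ≤ normalizer (W : Set G))
    (hCW : C ≤ normalizer (W : Set G)) (hWV : W < V) :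
    ∃ v ∈ V, v ∉ W ∧ ∀ c ∈ C, c * v * c⁻¹ * v⁻¹ ∈ W := by
  classical
  haveI : (W.subgroupOf V).Normal := normal_subgroupOf_of_le_normalizer hVW
  letI act : MulAction C (↥V ⧸ W.subgroupOf V) :=
    { smul := fun c q => Quotient.liftOn' q
        (fun v => QuotientGroup.mk ⟨(c : G) * v * (c : G)⁻¹, (mem_normalizer_iff.1 (hCV c.2) _).1 v.2⟩)
        (fun a b hab => by
          refine QuotientGroup.eq.2 ?_
          rw [QuotientGroup.leftRel_apply, mem_subgroupOf] at hab
          rw [mem_subgroupOf]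
          have h1 := (mem_normalizer_iff.1 (hCW c.2) _).1 hab
          simpa [mul_assoc] using h1)
      one_smul := fun q => by
        induction q using QuotientGroup.induction_on with
        | _ v => exact congrArg QuotientGroup.mk (Subtype.ext (by simp))
      mul_smul := fun c d q => by
        induction q using QuotientGroup.induction_on with
        | _ v => exact congrArg QuotientGroup.mk (Subtype.ext (by simp [mul_assoc])) }
  have hfix1 : (QuotientGroup.mk (1 : V) : ↥V ⧸ W.subgroupOf V) ∈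
      MulAction.fixedPoints C (↥V ⧸ W.subgroupOf V) := fun c =>
    congrArg QuotientGroup.mk (Subtype.ext (by simp))
  have hdvd : p ∣ Nat.card (↥V ⧸ W.subgroupOf V) := by
    obtain ⟨k, hk⟩ := hV.index (W.subgroupOf V)
    rw [← Subgroup.index_eq_card, hk]
    refine dvd_pow_self p fun h0 => hWV.not_ge ?_
    rw [h0, pow_zero, Subgroup.index_eq_one, subgroupOf_eq_top] at hk
    exact hk
  obtain ⟨q, hq, hne⟩ := hC.exists_fixed_point_of_prime_dvd_card_of_fixed_point _ hdvd hfix1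
  induction q using QuotientGroup.induction_on with
  | _ v =>
    refine ⟨v, v.2, fun h => hne ?_, fun c hc => ?_⟩
    · rw [QuotientGroup.eq, mem_subgroupOf]
      simpa using h
    · have h1 := (hq ⟨c, hc⟩).symm
      change (QuotientGroup.mk v : ↥V ⧸ W.subgroupOf V) = QuotientGroup.mk _ at h1
      rw [QuotientGroup.eq, mem_subgroupOf] at h1
      have h2 := (mem_normalizer_iff.1 (hVW v.2) _).1 h1
      simpa [mul_assoc] using h2

namespace Hyp

variable (Hy : Hyp S M X L)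
include Hy

theorem ynot_normal : ¬ L ≤ normalizer (YM : Set G) := fun h =>
  Hy.ynot (le_pCoreOf Hy.yle (largestPReducedOf_isPGroup M) h)

theorem not_isPGroup : ¬ IsPGroup p L := fun h =>
  Hy.ynot (Hy.yle.trans (le_pCoreOf le_rfl h le_normalizer))

/-- The two-generator contradiction. -/
theorem contra {h : G} (hh : h ∈ L) (hgen : YM ⊔ cj h YM = L) {P : Subgroup G} (hPL : P ≤ L)
    (hPp : IsPGroup p P) (hYP : YM ≤ P) (hPN : ¬ P ≤ normalizer (YM : Set G)) : False := by
  haveI := hPp.isNilpotent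
  set N1 := (P ⊓ normalizer (YM : Set G)).subgroupOf P with hN1
  have hlt : N1 < ⊤ := by
    rw [lt_top_iff_ne_top, hN1, Ne, subgroupOf_eq_top]
    exact fun h => hPN (h.trans inf_le_right)
  obtain ⟨t, htN, htN1⟩ := SetLike.exists_of_lt (Group.normalizerCondition_of_isNilpotent _ hlt)
  have htY : (t : G) ∉ normalizer (YM : Set G) := fun h4 => htN1 ⟨t.2, h4⟩
  refine htY (Hy.mem_normalizer_of_commute hh hgen (hPL t.2) ?_)
  have hmem : ∀ {s : P}, s ∈ normalizer (N1 : Set P) → ∀ y ∈ YM,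
      (s : G) * y * (s : G)⁻¹ ∈ normalizer (YM : Set G) := by
    intro s hs y hy
    have h5 : (⟨y, hYP hy⟩ : P) ∈ N1 :=
      mem_subgroupOf.2 ⟨hYP hy, le_normalizer hy⟩
    exact ((mem_normalizer_iff.1 hs _).1 h5).2
  have h6 : cj (t : G) YM ≤ normalizer ((cj 1 YM : Subgroup G) : Set G) := by
    rw [cj_one]
    rintro _ ⟨y, hy, rfl⟩
    exact hmem htN y hy
  have h7 : cj 1 YM ≤ normalizer ((cj (t : G) YM : Subgroup G) : Set G) := by
    rw [cj_one]
    intro y hy
    rw [normalizer_cj, mem_cj]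
    have := hmem (inv_mem htN) y hy
    simpa using this
  have h8 := commute_of_asym Hy.asym h6 h7
  rwa [cj_one] at h8

/-- An element outside `N(Y)` generates `L` with `Y`. -/
theorem gen {x : G} (hx : x ∈ L) (hn : x ∉ normalizer (YM : Set G)) : YM ⊔ cj x YM = L := by
  by_contra hne
  set P := YM ⊔ cj x YM with hP
  obtain ⟨h, hh, hgen⟩ := Hy.exists_gen
  have hPp := Hy.isPGroup_pair hx hne
  have hPL : P ≤ L := sup_le Hy.yle (by
    rintro _ ⟨y, hy, rfl⟩
    exact mul_mem (mul_mem hx (Hy.yle hy)) (inv_mem hx))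
  by_cases hPN : P ≤ normalizer (YM : Set G)
  · have h1 : cj x YM ≤ normalizer ((cj 1 YM : Subgroup G) : Set G) := by
      rw [cj_one]; exact le_sup_right.trans hPN
    -- `Y` normalizes `Yˣ` as well
    by_cases h2 : cj 1 YM ≤ normalizer ((cj x YM : Subgroup G) : Set G)
    · have h3 := commute_of_asym Hy.asym h1 h2
      rw [cj_one] at h3
      exact hn (Hy.mem_normalizer_of_commute hh hgen hx h3)
    · -- conjugating by `x⁻¹` reduces to the other case
      rw [cj_one] at h2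
      set P' := cj x⁻¹ P with hP'
      have hP'L : P' ≤ L := by
        rintro _ ⟨y, hy, rfl⟩
        exact mul_mem (mul_mem (inv_mem hx) (hPL hy)) (inv_mem (inv_mem hx))
      have hP'p : IsPGroup p P' := hPp.map _
      have hY' : YM ≤ P' := by
        intro y hy
        rw [mem_cj, inv_inv]
        exact mem_sup_right (conj_mem_cj hy)
      have hnot : ¬ P' ≤ normalizer (YM : Set G) := fun h4 => h2 fun y hy => by
        rw [normalizer_cj, mem_cj]
        exact h4 (by rw [mem_cj]; simpa [mul_assoc] using (mem_sup_left hy : y ∈ P))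
      exact Hy.contra hh hgen hP'L hP'p hY' hnot
  · exact Hy.contra hh hgen hPL hPp le_sup_left hPN

/-- A proper subgroup of `L` over `Y` normalizes `Y`. -/
theorem le_normalizer_of_ne {W : Subgroup G} (hW : W ≤ L) (hYW : YM ≤ W) (hne : W ≠ L) :
    W ≤ normalizer (YM : Set G) := by
  intro x hx
  by_contra hn
  refine hne (le_antisymm hW ?_)
  rw [← Hy.gen (hW hx) hn]
  refine sup_le hYW ?_
  rintro _ ⟨y, hy, rfl⟩
  exact mul_mem (mul_mem hx (hYW hy)) (inv_mem hx)

theorem sup_core_eq : L ⊔ OM = X := by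
  rcases eq_or_lt_of_le (sup_le Hy.le Hy.core_le) with h | h
  · exact h
  refine absurd ?_ Hy.ynot
  have h1 := Hy.frakH.2.2.2 _ le_sup_right h
  exact fun y hy => pCoreOf_inf_le (le_sup_left : L ≤ L ⊔ OM) ⟨Hy.yle hy, h1 hy⟩

theorem cj_sup_core_eq {x : G} (hx : x ∈ L) (hn : x ∉ normalizer (YM : Set G)) :
    cj x YM ⊔ OM = X := by
  have hle : cj x YM ≤ L := by
    rintro _ ⟨y, hy, rfl⟩
    exact mul_mem (mul_mem hx (Hy.yle hy)) (inv_mem hx)
  rcases eq_or_lt_of_le (sup_le (hle.trans Hy.le) Hy.core_le) with h | h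
  · exact h
  exfalso
  set P := cj x YM ⊔ OM with hP
  have h1 : YM ≤ Cfsg.pCoreOf p P := Hy.frakH.2.2.2 _ le_sup_right h
  have h2 : IsPGroup p ↥(cj x YM ⊔ Cfsg.pCoreOf p P) :=
    ((largestPReducedOf_isPGroup M).map _).to_sup_of_normal_right' (isPGroup_pCoreOf P)
      (le_sup_left.trans (le_normalizer_pCoreOf P))
  refine Hy.not_isPGroup (h2.to_le ?_)
  exact (Hy.gen hx hn).ge.trans (sup_le (h1.trans le_sup_right) le_sup_left)

section Gen

variable {h : G} (hh : h ∈ L)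
  (hgen : Cfsg.largestPReducedOf p M ⊔ cj h (Cfsg.largestPReducedOf p M) = L)
include hh hgen

theorem b_le_pCoreOf : (YM ⊓ RX) ⊔ cj h (YM ⊓ RX) ≤ OL := by
  refine le_trans (le_inf ?_ (Hy.b_le_r hh hgen)) (pCoreOf_inf_le Hy.le)
  refine sup_le (inf_le_left.trans Hy.yle) ?_
  rintro _ ⟨u, hu, rfl⟩
  exact mul_mem (mul_mem hh (Hy.yle hu.1)) (inv_mem hh)

theorem charP : Subgroup.centralizer (Cfsg.pCore p ↥L : Set ↥L) ≤ Cfsg.pCore p ↥L := by
  refine (inner_iff L).1 ?_
  refine le_pCoreOf_of_no_pPrime inf_le_left ?_ fun l hl hc => ?_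
  · intro g hg
    refine mem_normalizer_iff.2 fun a => ?_
    rw [Subgroup.mem_inf, Subgroup.mem_inf]
    exact and_congr (mem_normalizer_iff.1 (le_normalizer hg) a)
      (mem_normalizer_iff.1 (normalizer_le_normalizer_centralizer _ (le_normalizer_pCoreOf L hg)) a)
  have h1 := centralize_two (isPGroup_pCoreOf X) hc (Hy.le_stab hh hgen hl.1)
    (centralizer_le (Hy.b_le_pCoreOf hh hgen) hl.2)
  exact eq_one_of_coprime (isPGroup_pCoreOf X)
    (Hy.centralizer_r (Hy.le hl.1) fun r hr => (mem_centralizer_iff.1 h1 r hr).symm) hc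

theorem chief (V W : Subgroup G) (hV : V ≤ RX) (hXV : X ≤ normalizer (V : Set G))
    (hXW : X ≤ normalizer (W : Set G)) (hWV : W < V)
    (hch : ∀ Z : Subgroup G, X ≤ normalizer (Z : Set G) → W ≤ Z → Z ≤ V → Z = W ∨ Z = V)
    (hne : ¬ ⁅V, X⁆ ≤ W) : ¬ ⁅V, (Cfsg.pResidual p ↥L).map L.subtype⁆ ≤ W := by
  intro hres
  have hXsub : ∀ {A : Subgroup G}, A ≤ X → (∀ a ∈ A, ∀ v ∈ V, a * v * a⁻¹ * v⁻¹ ∈ W) →
      A ≤ stab V W := fun hA h a ha => ⟨hXV (hA ha), hXW (hA ha), h a ha⟩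
  have hVX : V ≤ X := hV.trans (LocalB.opIn_le X)
  set K := stab V W with hK
  have hXK : X ≤ normalizer (K : Set G) := le_normalizer_stab hXV hXW
  have hresK : (Cfsg.pResidual p ↥L).map L.subtype ≤ K :=
    hXsub ((map_subtype_le _).trans Hy.le) fun a ha v hv => by
      have h1 := inv_mem (hres (commutator_mem_commutator hv ha))
      simpa [commutatorElement_def, mul_assoc] using h1
  -- `L` is generated modulo `O^p(L)` by `Y`
  have hLK : L ≤ K ⊔ OM := by
    haveI := PResidual.pResidual_normal (G := ↥L) p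
    intro l hl
    set q := Cfsg.pResidual p ↥L with hq
    set π := QuotientGroup.mk' q
    have hqp : IsPGroup p (↥L ⧸ q) := fun z => by
      obtain ⟨x, rfl⟩ := QuotientGroup.mk'_surjective _ z
      refine ⟨(orderOf x).factorization p, ?_⟩
      rw [← map_pow]
      exact (QuotientGroup.eq_one_iff _).2 (PResidual.pow_mem_pResidual hp.out x)
    haveI := hqp.isNilpotent
    have htop : ((YM).subgroupOf L).map π = ⊤ := by
      by_contra hne'
      obtain ⟨W', hW', hle⟩ := (eq_top_or_exists_le_coatom (((YM).subgroupOf L).map π)).resolve_left hne'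
      haveI := (Group.normalizerCondition_of_isNilpotent (G := ↥L ⧸ q)).normal_of_coatom W' hW'
      have hsub : ∀ y ∈ YM, ∀ hy : y ∈ L, ∀ g : L, g * (⟨y, hy⟩ : L) * g⁻¹ ∈ W'.comap π :=
        fun y hy hyL g => (inferInstance : (W'.comap π).Normal).conj_mem _
          (mem_comap.2 (hle (mem_map_of_mem π (mem_subgroupOf.2 hy)))) g
      refine hW'.1 (eq_top_iff.2 fun z _ => ?_)
      obtain ⟨x, rfl⟩ := QuotientGroup.mk'_surjective _ z
      have hLW : L ≤ (W'.comap π).map L.subtype := hgen.ge.trans (sup_le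
        (fun y hy => ⟨⟨y, Hy.yle hy⟩, by simpa using hsub y hy (Hy.yle hy) 1, rfl⟩)
        (by
          rintro _ ⟨y, hy, rfl⟩
          exact ⟨_, hsub y hy (Hy.yle hy) ⟨h, hh⟩, rfl⟩))
      obtain ⟨x', hx', he⟩ := hLW x.2
      exact Subtype.ext he ▸ hx'
    obtain ⟨⟨y, hyL⟩, hy, hyl⟩ := (htop ▸ mem_top (π ⟨l, hl⟩) : π ⟨l, hl⟩ ∈ ((YM).subgroupOf L).map π)
    have hmem : (⟨l, hl⟩ : L) * (⟨y, hyL⟩ : L)⁻¹ ∈ q := by
      rw [← QuotientGroup.eq_one_iff]
      show π _ = 1
      rw [map_mul, map_inv, hyl, mul_inv_cancel]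
    have h2 : l * y⁻¹ ∈ K := hresK ⟨_, hmem, rfl⟩
    have := mul_mem (mem_sup_left h2 : l * y⁻¹ ∈ K ⊔ OM) (mem_sup_right (Hy.y_le_core hy))
    simpa using this
  have hXKO : X ≤ K ⊔ OM := Hy.sup_core_eq.ge.trans (sup_le hLK le_sup_right)
  -- the fixed points of `O_p(M)`
  set C := OM with hC
  obtain ⟨v, hv, hvW, hfix⟩ := comm_eq_of_comm_lt ((isPGroup_pCoreOf X).to_le hV) (isPGroup_pCoreOf M)
    (Hy.core_le.trans hXV) (hVX.trans hXW) (Hy.core_le.trans hXW) hWV
  let Z : Subgroup G :=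
    { carrier := {z | z ∈ V ∧ ∀ c ∈ OM, c * z * c⁻¹ * z⁻¹ ∈ W}
      mul_mem' := by
        rintro a b ⟨ha, ha'⟩ ⟨hb, hb'⟩
        refine ⟨mul_mem ha hb, fun c hc => ?_⟩
        have h1 := (mem_normalizer_iff.1 (hXW (hVX ha)) _).1 (hb' c hc)
        have h2 := mul_mem (ha' c hc) h1
        simpa [mul_assoc] using h2
      one_mem' := ⟨one_mem _, fun c _ => by simp⟩
      inv_mem' := by
        rintro a ⟨ha, ha'⟩
        refine ⟨inv_mem ha, fun c hc => ?_⟩
        have h1 := (mem_normalizer_iff.1 (hXW (inv_mem (hVX ha))) _).1 (inv_mem (ha' c hc))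
        simpa [mul_assoc] using h1 }
  have hWZ : W ≤ Z := fun w hw => ⟨hWV.le hw, fun c hc =>
    mul_mem ((mem_normalizer_iff.1 (hXW (Hy.core_le hc)) w).1 hw) (inv_mem hw)⟩
  have hZV : Z ≤ V := fun z hz => hz.1
  have hZn : X ≤ normalizer (Z : Set G) := by
    refine hXKO.trans (sup_le (fun k hk => ?_) fun c hc => ?_)
    · exact mem_normalizer_of_comm hk.2.2 hWZ hZV
    · refine mem_normalizer_of_map_le ?_
      rintro _ ⟨z, hz, rfl⟩
      have := mul_mem (hWZ (hz.2 c hc)) hz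
      simpa using this
  have hZV' : Z = V := (hch Z hZn hWZ hZV).resolve_left fun e => hvW (e.le ⟨hv, hfix⟩)
  have hCK : OM ≤ K := hXsub Hy.core_le fun c hc z hz => (hZV'.ge hz).2 c hc
  refine hne (commutator_le.2 fun z hz x hx => ?_)
  have h1 := inv_mem ((hXKO.trans (sup_le le_rfl hCK) hx).2.2 z hz)
  simpa [commutatorElement_def, mul_assoc] using h1

/-- `O_p(L) ∩ Y` lies in `O_p(X)`. -/
theorem inf_le_r : OL ⊓ YM ≤ RX := by
  have hOLn : OL ≤ normalizer (YM : Set G) := by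
    have h1 : IsPGroup p ↥(YM ⊔ OL) := (largestPReducedOf_isPGroup M).to_sup_of_normal_right'
      (isPGroup_pCoreOf L) (Hy.yle.trans (le_normalizer_pCoreOf L))
    refine le_sup_right.trans (Hy.le_normalizer_of_ne (sup_le Hy.yle (LocalB.opIn_le L)) le_sup_left
      fun e => Hy.not_isPGroup (e ▸ h1))
  set U := YM ⊓ RX with hU
  set D := RX ⊓ CM with hD
  set U' := cj h U with hU'
  have hDR : D ≤ RX := inf_le_left
  have hU'R : U' ≤ RX := Hy.u'_le_r hh hgen
  have hUD : U ≤ D := fun u hu => ⟨hu.2, Hy.core_le_centralizer (Hy.y_le_core hu.1)⟩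
  set K := D ⊔ U' with hKdef
  have hKR : K ≤ RX := sup_le hDR hU'R
  set Z₀ := U ⊓ U' with hZ₀
  have hBK : (YM ⊓ RX) ⊔ cj h (YM ⊓ RX) ≤ K := sup_le (hUD.trans le_sup_left) le_sup_right
  have hXK : X ≤ normalizer (K : Set G) := by
    refine Hy.sup_core_eq.ge.trans (sup_le (fun l hl => ?_) fun c hc => ?_)
    · exact mem_normalizer_of_comm (Hy.le_stab hh hgen hl).2.2 hBK hKR
    · refine mem_normalizer_of_comm (B := D) (fun r hr => ?_) le_sup_left hKR
      refine Subgroup.mem_inf.2 ⟨mul_mem ((mem_normalizer_iff.1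
        (le_normalizer_pCoreOf X (Hy.core_le hc)) r).1 hr) (inv_mem hr), ?_⟩
      refine mem_centralizer_iff.2 fun y hy => ?_
      have hcy : ∀ w ∈ YM, w * c = c * w := fun w hw =>
        mem_centralizer_iff.1 (Hy.core_le_centralizer hc) w hw
      have hy' : r⁻¹ * y * r ∈ YM := by
        have := (mem_normalizer_iff.1 (inv_mem (Hy.r_le_y hr)) y).1 hy
        simpa using this
      calc y * (c * r * c⁻¹ * r⁻¹) = c * (y * r) * c⁻¹ * r⁻¹ := by
            simp only [← mul_assoc]; rw [hcy y hy]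
        _ = c * r * ((r⁻¹ * y * r) * c⁻¹) * r⁻¹ := by group
        _ = c * r * (c⁻¹ * (r⁻¹ * y * r)) * r⁻¹ := by
            congr 2
            exact eq_inv_mul_of_mul_eq (by rw [← mul_assoc, ← hcy _ hy', mul_inv_cancel_right])
        _ = c * r * c⁻¹ * r⁻¹ * y := by group
  have hZc : X ≤ centralizer (Z₀ : Set G) := by
    refine Hy.sup_core_eq.ge.trans (sup_le ?_ ?_)
    · intro l hl
      refine mem_centralizer_iff.2 fun z hz => ?_
      refine Hy.centralizer_L hh hgen (fun y hy => Hy.y_comm hz.1.1 hy) ?_ l hl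
      obtain ⟨w, hw, hwz⟩ := hz.2
      rintro _ ⟨y, hy, rfl⟩
      rw [← hwz]
      simp only [MulEquiv.coe_toMonoidHom, MulAut.conj_apply]
      rw [show h * w * h⁻¹ * (h * y * h⁻¹) = h * (w * y) * h⁻¹ by group, Hy.y_comm hw.1 hy]
      group
    · exact Hy.core_le_centralizer.trans (centralizer_le fun z hz => hz.1.1)
  set Γ := (X ⊓ stab RX K) ⊓ stab K Z₀ with hΓ
  have hΓn : X ≤ normalizer (Γ : Set G) := by
    have h0 : X ≤ normalizer (Z₀ : Set G) := hZc.trans (FrakM.centralizer_le_normalizer _)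
    intro x hx
    refine mem_normalizer_iff.2 fun a => ?_
    rw [hΓ, Subgroup.mem_inf, Subgroup.mem_inf, Subgroup.mem_inf, Subgroup.mem_inf]
    exact and_congr (and_congr (mem_normalizer_iff.1 (le_normalizer hx) a)
      (mem_normalizer_iff.1 (le_normalizer_stab (le_normalizer_pCoreOf X) hXK hx) a))
      (mem_normalizer_iff.1 (le_normalizer_stab hXK h0 hx) a)
  have hΓR : Γ ≤ RX := le_pCoreOf_of_no_pPrime (inf_le_left.trans inf_le_left) hΓn fun l hl hc => by
    have h1 := centralize_two ((isPGroup_pCoreOf X).to_le hKR) hc hl.2 (hZc hl.1.1)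
    have h2 := centralize_two (isPGroup_pCoreOf X) hc hl.1.2 h1
    exact eq_one_of_coprime (isPGroup_pCoreOf X)
      (Hy.centralizer_r hl.1.1 fun r hr => (mem_centralizer_iff.1 h2 r hr).symm) hc
  rintro y ⟨hyA, hy⟩
  have hyX := Hy.y_le_X hy
  refine hΓR ⟨⟨hyX, le_normalizer_pCoreOf X hyX, hXK hyX, fun r hr =>
    hBK (mem_sup_left (Hy.comm_ry hr hy))⟩, hXK hyX,
    FrakM.centralizer_le_normalizer _ (hZc hyX), fun k hk => ?_⟩
  have hyU' : y ∈ normalizer ((U' : Subgroup G) : Set G) := by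
    rw [hU', normalizer_cj, mem_cj]
    have hy' : h⁻¹ * y * h ∈ OL := by
      have := (mem_normalizer_iff.1 (le_normalizer_pCoreOf L (inv_mem hh)) y).1 hyA
      simpa using this
    refine mem_normalizer_iff.2 fun a => ?_
    rw [hU, Subgroup.mem_inf, Subgroup.mem_inf]
    refine and_congr (mem_normalizer_iff.1 (hOLn hy') a) (mem_normalizer_iff.1 ?_ a)
    exact le_normalizer_pCoreOf X (Hy.le (mul_mem (mul_mem (inv_mem hh) (Hy.yle hy)) hh))
  obtain ⟨d, hd, v, hv, rfl⟩ := exists_mul_of_mem_sup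
    (hDR.trans (Hy.r_le_normalizer_u' hh hgen)) hk
  have hvZ : y * v * y⁻¹ * v⁻¹ ∈ Z₀ := Subgroup.mem_inf.2 ⟨Hy.comm_ry (hU'R hv) hy,
    mul_mem ((mem_normalizer_iff.1 hyU' v).1 hv) (inv_mem hv)⟩
  have hyd : y * d = d * y := mem_centralizer_iff.1 hd.2 y hy
  have hz := mem_centralizer_iff.1 (hZc ((LocalB.opIn_le X) (hDR hd))) _ hvZ
  have h3 : y * (d * v) * y⁻¹ * (d * v)⁻¹ = d * (y * v * y⁻¹ * v⁻¹) * d⁻¹ := by
    rw [← mul_assoc y d v, hyd]; group
  rw [h3, ← hz, mul_inv_cancel_right]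
  exact hvZ

end Gen

/-- The asymmetric L-lemma. -/
theorem conclusion :
    (L ⊔ OM = X ∧ ∀ h ∈ L, h ∉ normalizer (YM : Set G) → cj h YM ⊔ OM = X) ∧
    (Cfsg.IsMinimalOver ((YM).subgroupOf L) ∧
      Subgroup.centralizer (Cfsg.pCore p ↥L : Set ↥L) ≤ Cfsg.pCore p ↥L ∧
      L ⊓ normalizer (YM : Set G) < L ∧
      ∀ W : Subgroup G, YM ≤ W → W < L → W ≤ L ⊓ normalizer (YM : Set G)) ∧
    (∀ V W : Subgroup G, V ≤ RX → X ≤ normalizer (V : Set G) → X ≤ normalizer (W : Set G) →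
      W < V → (∀ Z : Subgroup G, X ≤ normalizer (Z : Set G) → W ≤ Z → Z ≤ V → Z = W ∨ Z = V) →
      ¬ ⁅V, X⁆ ≤ W → ¬ ⁅V, (Cfsg.pResidual p ↥L).map L.subtype⁆ ≤ W) ∧
    (normalClosure ((((OL ⊓ YM).subgroupOf L : Subgroup ↥L)) : Set ↥L)).map L.subtype ≤ RX := by
  obtain ⟨h, hh, hgen⟩ := Hy.exists_gen
  have hlt : L ⊓ normalizer (YM : Set G) < L :=
    lt_of_le_of_ne inf_le_left fun e => Hy.ynot_normal (e ▸ inf_le_right)
  have hmax : ∀ W : Subgroup G, YM ≤ W → W < L → W ≤ L ⊓ normalizer (YM : Set G) :=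
    fun W hY hW => le_inf hW.le (Hy.le_normalizer_of_ne hW.le hY hW.ne)
  refine ⟨⟨Hy.sup_core_eq, fun x hx hn => Hy.cj_sup_core_eq hx hn⟩,
    ⟨⟨?_, ?_⟩, Hy.charP hh hgen, hlt, hmax⟩,
    Hy.chief hh hgen, normalClosure_map_le (Hy.inf_le_r hh hgen) (Hy.le.trans (le_normalizer_pCoreOf X))⟩
  · refine eq_top_iff.2 fun x _ => ?_
    have hL : L ≤ (normalClosure (((YM).subgroupOf L : Subgroup ↥L) : Set ↥L)).map L.subtype :=
      hgen.ge.trans (sup_le (le_normalClosure_map Hy.yle) (by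
        rintro _ ⟨y, hy, rfl⟩
        exact ⟨⟨h, hh⟩ * ⟨y, Hy.yle hy⟩ * ⟨h, hh⟩⁻¹, normalClosure_normal.conj_mem _
          (subset_normalClosure (mem_subgroupOf.2 hy)) _, rfl⟩))
    obtain ⟨x', hx', he⟩ := hL x.2
    exact Subtype.ext he ▸ hx'
  · set N := (L ⊓ normalizer (YM : Set G)).subgroupOf L with hN
    have hYN : (YM).subgroupOf L ≤ N := fun y hy =>
      mem_subgroupOf.2 ⟨y.2, le_normalizer (mem_subgroupOf.1 hy)⟩
    have hbelow : ∀ W : Subgroup ↥L, W ≠ ⊤ → (YM).subgroupOf L ≤ W → W ≤ N := by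
      intro W hW hYW
      have h1 := hmax (W.map L.subtype) (fun y hy => ⟨⟨y, Hy.yle hy⟩, hYW (mem_subgroupOf.2 hy), rfl⟩)
        (lt_of_le_of_ne (map_subtype_le _) fun e => hW (eq_top_iff.2 fun x _ => by
          obtain ⟨x', hx', he⟩ := e.ge x.2
          exact Subtype.ext he ▸ hx'))
      exact fun x hx => mem_subgroupOf.2 (h1 ⟨x, hx, rfl⟩)
    have hNtop : N ≠ ⊤ := fun e => hlt.not_ge (subgroupOf_eq_top.1 e)
    refine ⟨N, ⟨⟨hNtop, fun W hW => ?_⟩, hYN⟩, fun W hW => ?_⟩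
    · by_contra hW'
      exact hW.not_ge (hbelow W hW' (hYN.trans hW.le))
    · obtain ⟨⟨hW1, hW2⟩, hYW⟩ := hW
      rcases eq_or_lt_of_le (hbelow W hW1 hYW) with e | e
      · exact e
      · exact absurd (hW2 N e) hNtop

end Hyp

end CfsgLib.AsymL
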