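import Cfsg.Agent.CharP.FrakH
import Cfsg.Agent.CharP.Stabilizer

/-!
# Elements acting trivially on a factor; the averaging argument for invariant complements
-/

set_option autoImplicit false
set_option linter.unusedSectionVars false

namespace CfsgLib.AsymL

open Subgroup CfsgLib.FrakM

variable {G : Type*} [Group G]

/-- The elements normalizing `R` and `B` and acting trivially on `R` modulo `B`. -/
def stab (R B : Subgroup G) : Subgroup G where
  carrier := {g | g ∈ normalizer (R : Set G) ∧ g ∈ normalizer (B : Set G) ∧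
    ∀ r ∈ R, g * r * g⁻¹ * r⁻¹ ∈ B}
  mul_mem' := by
    rintro g k ⟨hgR, hgB, hg⟩ ⟨hkR, hkB, hk⟩
    refine ⟨mul_mem hgR hkR, mul_mem hgB hkB, fun r hr => ?_⟩
    have h1 := (mem_normalizer_iff.1 hgB _).1 (hk r hr)
    rw [show g * k * r * (g * k)⁻¹ * r⁻¹ =
      g * (k * r * k⁻¹ * r⁻¹) * g⁻¹ * (g * r * g⁻¹ * r⁻¹) by group]
    exact mul_mem h1 (hg r hr)
  one_mem' := ⟨one_mem _, one_mem _, fun r _ => by simp⟩
  inv_mem' := by
    rintro g ⟨hgR, hgB, hg⟩
    refine ⟨inv_mem hgR, inv_mem hgB, fun r hr => ?_⟩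
    have h1 := (mem_normalizer_iff.1 (inv_mem hgB) _).1 (inv_mem (hg r hr))
    simpa [mul_assoc] using h1

theorem stab_le_normalizer (R B : Subgroup G) : stab R B ≤ normalizer (R : Set G) :=
  fun _ hg => hg.1

/-- A subgroup normalizing both terms normalizes the stabilizer. -/
theorem le_normalizer_stab {X R B : Subgroup G} (hR : X ≤ normalizer (R : Set G))
    (hB : X ≤ normalizer (B : Set G)) : X ≤ normalizer (stab R B : Set G) := by
  have key : ∀ x ∈ X, ∀ g ∈ stab R B, x * g * x⁻¹ ∈ stab R B := by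
    rintro x hx g ⟨hgR, hgB, hg⟩
    refine ⟨mul_mem (mul_mem (hR hx) hgR) (inv_mem (hR hx)),
      mul_mem (mul_mem (hB hx) hgB) (inv_mem (hB hx)), fun r hr => ?_⟩
    have hr' := (mem_normalizer_iff.1 (inv_mem (hR hx)) r).1 hr
    have h1 := (mem_normalizer_iff.1 (hB hx) _).1 (hg _ hr')
    simpa [mul_assoc] using h1
  exact fun x hx => mem_normalizer_iff.2 fun g =>
    ⟨key x hx g, fun hg => by simpa [mul_assoc] using key x⁻¹ (inv_mem hx) _ hg⟩

/-- An element normalizing `R` and moving it only inside a subgroup of `R` normalizes that subgroup. -/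
theorem mem_normalizer_of_comm [Finite G] {R B : Subgroup G} {g : G}
    (h : ∀ r ∈ R, g * r * g⁻¹ * r⁻¹ ∈ B) {K : Subgroup G} (hBK : B ≤ K) (hKR : K ≤ R) :
    g ∈ normalizer (K : Set G) := by
  refine mem_normalizer_of_map_le ?_
  rintro _ ⟨k, hk, rfl⟩
  have h1 := mul_mem (hBK (h k (hKR hk))) hk
  simpa using h1

/-- An element of order prime to `p` stabilizing a series of length two centralizes a `p`-group. -/
theorem centralize_two [Finite G] {p : ℕ} [Fact p.Prime] {R B : Subgroup G} (hR : IsPGroup p R)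
    {g : G} (hg : (orderOf g).Coprime p) (h1 : g ∈ stab R B) (h2 : g ∈ centralizer (B : Set G)) :
    g ∈ centralizer (R : Set G) := by
  refine CharP.centralize_of_series hR hg h1.1 (fun i => if i = 0 then R else if i = 1 then B else ⊥)
    2 rfl rfl fun i hi => ?_
  have hz : zpowers g ≤ stab R B := (zpowers_le).2 h1
  interval_cases i
  · show ⁅R, zpowers g⁆ ≤ B
    refine commutator_le.2 fun r hr x hx => ?_
    have h3 := inv_mem ((hz hx).2.2 r hr)
    simpa [commutatorElement_def, mul_assoc] using h3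
  · show ⁅B, zpowers g⁆ ≤ ⊥
    rw [le_bot_iff, commutator_eq_bot_iff_le_centralizer, le_centralizer_iff]
    exact (zpowers_le).2 h2

/-- The averaging lemma: for `y` in an abelian group `J` moved only inside `Z` by `Ω`, and fixed modulo
`U` by a subgroup `T` of index prime to `p`, some product of conjugates of `y` is fixed modulo `U`. -/
theorem exists_average [Finite G] {Ω T U Z J : Subgroup G} (hJ : ∀ a ∈ J, ∀ b ∈ J, a * b = b * a)
    (hUZ : U ≤ Z) (hZJ : Z ≤ J) (hΩU : Ω ≤ normalizer (U : Set G)) (hΩ : Ω ≤ stab J Z) (hTΩ : T ≤ Ω)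
    {y : G} (hy : y ∈ J) (hT : ∀ g ∈ T, g * y * g⁻¹ * y⁻¹ ∈ U) :
    ∃ z ∈ Z, ∀ g ∈ Ω, g * (z * y ^ T.relIndex Ω) * g⁻¹ * (z * y ^ T.relIndex Ω)⁻¹ ∈ U := by
  classical
  letI : CommGroup J :=
    { (inferInstance : Group J) with mul_comm := fun a b => Subtype.ext (hJ a a.2 b b.2) }
  haveI := Fintype.ofFinite (Ω ⧸ T.subgroupOf Ω)
  let φ : ∀ g : G, g ∈ Ω → J →* J := fun g hg =>
    { toFun := fun a => ⟨g * (a : G) * g⁻¹, (mem_normalizer_iff.1 (hΩ hg).1 _).1 a.2⟩
      map_one' := Subtype.ext (by simp)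
      map_mul' := fun a b => Subtype.ext (by simp [mul_assoc]) }
  let f : Ω ⧸ T.subgroupOf Ω → J := fun q => φ (q.out : G) q.out.2 ⟨y, hy⟩
  let s : J := ∏ q, f q
  let z : J := ∏ q, f q * (⟨y, hy⟩ : J)⁻¹
  have hz : z ∈ Z.subgroupOf J := Subgroup.prod_mem _ fun q _ => by
    exact (hΩ q.out.2).2.2 y hy
  have hs : s = z * (⟨y, hy⟩ : J) ^ T.relIndex Ω := by
    show s = (∏ q, f q * (⟨y, hy⟩ : J)⁻¹) * _
    rw [Finset.prod_mul_distrib, Finset.prod_const, Finset.card_univ]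
    rw [show T.relIndex Ω = Fintype.card (Ω ⧸ T.subgroupOf Ω) from Nat.card_eq_fintype_card]
    rw [inv_pow, inv_mul_cancel_right]
  refine ⟨z, hz, fun g hg => ?_⟩
  have hUJ : ∀ q, φ g hg (f q) * (f ((⟨g, hg⟩ : Ω) • q))⁻¹ ∈ U.subgroupOf J := by
    intro q
    set r : Ω := ((⟨g, hg⟩ : Ω) • q).out with hr
    have hτ : r⁻¹ * ((⟨g, hg⟩ : Ω) * q.out) ∈ T.subgroupOf Ω := by
      rw [← QuotientGroup.eq, hr, QuotientGroup.out_eq', ← smul_eq_mul,
        ← MulAction.Quotient.smul_coe, QuotientGroup.out_eq']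
    set τ : G := ((r⁻¹ * ((⟨g, hg⟩ : Ω) * q.out) : Ω) : G) with hτdef
    have h1 := (mem_normalizer_iff.1 (hΩU r.2) _).1 (hT τ hτ)
    rw [mem_subgroupOf]
    show g * ((q.out : G) * y * (q.out : G)⁻¹) * g⁻¹ * ((r : G) * y * (r : G)⁻¹)⁻¹ ∈ U
    simpa [hτdef, mul_assoc] using h1
  have hprod : φ g hg s * s⁻¹ ∈ U.subgroupOf J := by
    have h1 := Subgroup.prod_mem (U.subgroupOf J) (t := Finset.univ) fun q _ => hUJ q
    rw [Finset.prod_mul_distrib, ← map_prod, Finset.prod_inv_distrib] at h1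
    have h2 : ∏ q, f ((⟨g, hg⟩ : Ω) • q) = s :=
      Fintype.prod_equiv (MulAction.toPerm (⟨g, hg⟩ : Ω)) _ f fun q => rfl
    rwa [h2] at h1
  rw [hs] at hprod
  exact mem_subgroupOf.1 hprod

end CfsgLib.AsymL
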